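import Groth.Agent.CohqB.QC2

/-!
# Extension of linear maps from the affine opens to all opens

`exists_extend`: linear maps `Γ(F, V) → Γ(L, V)`, given on the affine opens `V ≤ W` and compatible with
restriction, extend to all opens `V ≤ W` (node H of Plan720b).
-/

set_option autoImplicit false
universe u
open CategoryTheory CategoryTheory.Limits AlgebraicGeometry Opposite TopologicalSpace
open Groth.Agent.CohqB.QC2

namespace K653.Extend

variable {X : Scheme.{u}}

/-- The affine opens contained in `V`. -/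
def Aff (V : X.Opens) : Type u := {U : X.Opens // IsAffineOpen U ∧ U ≤ V}

theorem le_iSup_aff (V : X.Opens) : V ≤ ⨆ i : Aff V, i.1 := by
  intro x hx
  obtain ⟨U, hU, hxU, hUV⟩ := exists_isAffineOpen_mem_and_subset (X := X) (U := V) hx
  exact Opens.mem_iSup.2 ⟨⟨U, hU, hUV⟩, hxU⟩

theorem ext_aff (L : X.Modules) {V : X.Opens} (s t : Γ(L, V))
    (h : ∀ (U : X.Opens) (hU : IsAffineOpen U) (i : U ≤ V), res L i s = res L i t) : s = t :=
  section_ext L (fun i : Aff V => i.1) (fun i => i.2.2) (le_iSup_aff V) s t fun i => h _ i.2.1 i.2.2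

theorem glue_aff (L : X.Modules) {V : X.Opens}
    (s : ∀ U : X.Opens, U ≤ V → IsAffineOpen U → Γ(L, U))
    (hs : ∀ (U U' : X.Opens) (i : U ≤ V) (j : U' ≤ U) (a : IsAffineOpen U) (a' : IsAffineOpen U'),
      res L j (s U i a) = s U' (j.trans i) a') :
    ∃ t : Γ(L, V), ∀ (U : X.Opens) (i : U ≤ V) (a : IsAffineOpen U), res L i t = s U i a := by
  obtain ⟨t, ht⟩ := exists_glue L (fun i : Aff V => i.1) (fun i => i.2.2) (le_iSup_aff V)
    (fun i => s i.1 i.2.2 i.2.1) (fun i j => by
      apply ext_aff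
      intro U hU k
      rw [res_res, res_res, hs _ _ _ _ _ hU, hs _ _ _ _ _ hU])
  exact ⟨t, fun U i a => ht ⟨U, a, i⟩⟩

/-- NODE H of Plan720b: extension of linear maps from affine opens to all opens contained in `W` -/
theorem exists_extend (F L : X.Modules) (W : X.Opens)
    (α : ∀ V : X.Opens, V ≤ W → IsAffineOpen V → (Γ(F, V) →ₗ[Γ(X, V)] Γ(L, V)))
    (nat : ∀ (V V' : X.Opens) (hV : V ≤ W) (aV : IsAffineOpen V) (aV' : IsAffineOpen V') (i : V' ≤ V) (s : Γ(F, V)),
      α V' (i.trans hV) aV' (F.presheaf.map (homOfLE i).op s) = L.presheaf.map (homOfLE i).op (α V hV aV s)) :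
    ∃ β : ∀ V : X.Opens, V ≤ W → (Γ(F, V) →ₗ[Γ(X, V)] Γ(L, V)),
      (∀ (V V' : X.Opens) (hV : V ≤ W) (i : V' ≤ V) (s : Γ(F, V)),
        β V' (i.trans hV) (F.presheaf.map (homOfLE i).op s) = L.presheaf.map (homOfLE i).op (β V hV s)) ∧
      ∀ (V : X.Opens) (hV : V ≤ W) (aV : IsAffineOpen V), β V hV = α V hV aV := by
  have nat' : ∀ (V V' : X.Opens) (hV : V ≤ W) (aV : IsAffineOpen V) (aV' : IsAffineOpen V') (i : V' ≤ V)
      (s : Γ(F, V)), α V' (i.trans hV) aV' (res F i s) = res L i (α V hV aV s) := nat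
  have h1 : ∀ (V : X.Opens) (hV : V ≤ W) (s : Γ(F, V)), ∃ t : Γ(L, V),
      ∀ (U : X.Opens) (i : U ≤ V) (a : IsAffineOpen U), res L i t = α U (i.trans hV) a (res F i s) := by
    intro V hV s
    exact glue_aff L (fun U i a => α U (i.trans hV) a (res F i s)) (fun U U' i j a a' => by
      rw [← nat' U U' (i.trans hV) a a' j, res_res])
  choose b hb using h1
  have huniq : ∀ (V : X.Opens) (hV : V ≤ W) (s : Γ(F, V)) (t : Γ(L, V)),
      (∀ (U : X.Opens) (i : U ≤ V) (a : IsAffineOpen U), res L i t = α U (i.trans hV) a (res F i s)) →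
        b V hV s = t := fun V hV s t h => ext_aff L _ _ fun U hU i => by rw [hb, h U i hU]
  refine ⟨fun V hV => { toFun := b V hV, map_add' := ?_, map_smul' := ?_ }, ?_, ?_⟩
  · intro s s'
    refine huniq V hV _ _ fun U i a => ?_
    rw [map_add, map_add, hb V hV s U i a, hb V hV s' U i a, map_add]
  · intro r s
    refine huniq V hV _ _ fun U i a => ?_
    rw [RingHom.id_apply, res_smul, res_smul, map_smul, hb V hV s U i a]
  · intro V V' hV i s
    change b V' (i.trans hV) (res F i s) = res L i (b V hV s)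
    refine huniq V' (i.trans hV) _ _ fun U j a => ?_
    rw [res_res, res_res, hb V hV s U (j.trans i) a]
  · intro V hV aV
    ext s
    refine huniq V hV s _ fun U i a => ?_
    exact (nat' V U hV aV a i s).symm

end K653.Extend
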